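import Mathlib
import Cfsg.Agent.Lib.Helper5.CS4.Defs

set_option autoImplicit false

/-!
Package [CU] of the CS4 project (S4146): in the situation `StageA`, every `q'`-element
centralizes `U`.
-/

namespace Cfsg.Agent.Lib.Helper55.CS4

open Cfsg.Agent.Lib.Helper5.CS4

universe u

/-- `cidx z = 1` iff `z` is central. -/
theorem cidx_eq_one_iff {G : Type u} [Group G] (z : G) :
    cidx z = 1 ↔ z ∈ Subgroup.center G := by
  unfold cidx
  rw [Subgroup.index_eq_one, Subgroup.centralizer_eq_top_iff_subset, Set.singleton_subset_iff]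
  rfl

/-- Class sizes are invariant under conjugation. -/
theorem cidx_conj {G : Type u} [Group G] (g z : G) : cidx (g * z * g⁻¹) = cidx z := by
  unfold cidx
  have h : Subgroup.centralizer ({g * z * g⁻¹} : Set G) =
      (Subgroup.centralizer ({z} : Set G)).map ((MulAut.conj g : G ≃* G) : G →* G) := by
    ext y
    simp only [Subgroup.mem_centralizer_iff, Set.mem_singleton_iff, forall_eq, Subgroup.mem_map,
      MonoidHom.coe_coe, MulAut.conj_apply]
    constructor
    · intro hy
      refine ⟨g⁻¹ * y * g, ?_, by group⟩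
      have h1 : z * (g⁻¹ * y * g) = g⁻¹ * ((g * z * g⁻¹) * y) * g := by group
      have h2 : (g⁻¹ * y * g) * z = g⁻¹ * (y * (g * z * g⁻¹)) * g := by group
      rw [h1, h2, hy]
    · rintro ⟨k, hk, rfl⟩
      have h1 : g * z * g⁻¹ * (g * k * g⁻¹) = g * (z * k) * g⁻¹ := by group
      have h2 : g * k * g⁻¹ * (g * z * g⁻¹) = g * (k * z) * g⁻¹ := by group
      rw [h1, h2, hk]
  rw [h, Subgroup.index_map_equiv]

/-- Reduction to elements of prime power order: a subgroup containing all elements of prime
power order `t ^ k`, `t ≠ q`, contains every element of order prime to `q`. -/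
theorem mem_of_primePow_mem {G : Type u} [Group G] [Finite G] (H : Subgroup G) (q : ℕ)
    (hq : q.Prime)
    (h : ∀ (x : G) (t k : ℕ), t.Prime → t ≠ q → orderOf x = t ^ k → x ∈ H) :
    ∀ x : G, (orderOf x).Coprime q → x ∈ H := by
  have key : ∀ N : ℕ, ∀ x : G, orderOf x = N → N.Coprime q → x ∈ H := by
    intro N
    induction N using Nat.strong_induction_on with
    | _ N ih =>
      intro x hx hcop
      have hNpos : 0 < N := hx ▸ orderOf_pos x
      by_cases hN1 : N = 1
      · have : x = 1 := orderOf_eq_one_iff.mp (hx.trans hN1)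
        rw [this]; exact H.one_mem
      · set t := N.minFac with ht_def
        have ht : t.Prime := Nat.minFac_prime hN1
        have htN : t ∣ N := Nat.minFac_dvd N
        have htq : t ≠ q := by
          intro hEq
          have hqN : q ∣ N := hEq ▸ htN
          have := Nat.eq_one_of_dvd_coprimes hcop hqN (dvd_refl q)
          exact hq.one_lt.ne' this
        set k := N.factorization t with hk_def
        set N' := N / t ^ k with hN'_def
        have hmul : t ^ k * N' = N := Nat.ordProj_mul_ordCompl_eq_self N t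
        have hkpos : 0 < k := ht.factorization_pos_of_dvd hNpos.ne' htN
        have hN'pos : 0 < N' := by
          rcases Nat.eq_zero_or_pos N' with h0 | h0
          · rw [h0, Nat.mul_zero] at hmul; omega
          · exact h0
        have htk2 : 2 ≤ t ^ k := by
          calc 2 ≤ t := ht.two_le
            _ = t ^ 1 := (pow_one t).symm
            _ ≤ t ^ k := Nat.pow_le_pow_right ht.pos hkpos
        have hN'lt : N' < N := by nlinarith
        have hcopt : Nat.Coprime (t ^ k) N' :=
          Nat.Coprime.pow_left k (Nat.coprime_ordCompl ht hNpos.ne')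
        -- the two powers
        have ho1 : orderOf (x ^ N') = t ^ k := by
          rw [orderOf_pow_of_dvd hN'pos.ne' (hx ▸ Dvd.intro_left _ hmul), hx]
          exact Nat.div_eq_of_eq_mul_left hN'pos hmul.symm
        have ho2 : orderOf (x ^ (t ^ k)) = N' := by
          rw [orderOf_pow_of_dvd (by positivity) (hx ▸ Dvd.intro _ hmul), hx]
        have hm1 : x ^ N' ∈ H := h _ t k ht htq ho1
        have hm2 : x ^ (t ^ k) ∈ H :=
          ih N' hN'lt _ ho2 (Nat.Coprime.coprime_dvd_left (Dvd.intro_left _ hmul) hcop)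
        -- Bezout
        have hb : ((t ^ k : ℕ) : ℤ) * Nat.gcdA (t ^ k) N' + (N' : ℤ) * Nat.gcdB (t ^ k) N' = 1 := by
          have := Nat.gcd_eq_gcd_ab (t ^ k) N'
          rw [hcopt] at this
          simpa using this.symm
        have hx1 : x = (x ^ (t ^ k)) ^ (Nat.gcdA (t ^ k) N') * (x ^ N') ^ (Nat.gcdB (t ^ k) N') := by
          rw [← zpow_natCast x (t ^ k), ← zpow_natCast x N', ← zpow_mul, ← zpow_mul, ← zpow_add,
            hb, zpow_one]
        rw [hx1]
        exact H.mul_mem (H.zpow_mem hm2 _) (H.zpow_mem hm1 _)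
  intro x hx
  exact key _ x rfl hx

/-- [CU] every `q'`-element centralizes `U`. -/
theorem pkgCU (hE0 : PkgE0.{u}) (hQC : PkgQC.{u}) (hFix : PkgFix.{u}) : PkgCU.{u} := by
  intro G _ _ n q e U a₀ hA hE1
  have hq : q.Prime := hA.hq
  have hctx := hA.ctx
  have hm1 : 1 < q ^ e := hctx.2.1
  have hnm : n.Coprime (q ^ e) := hctx.2.2.1
  have hepos : 0 < e := by
    rcases Nat.eq_zero_or_pos e with h0 | h0
    · rw [h0, pow_zero] at hm1; omega
    · exact h0
  have hnq : ¬ q ∣ n := by
    intro hqn
    have hqqe : q ∣ q ^ e := dvd_pow_self q hepos.ne'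
    have := Nat.eq_one_of_dvd_coprimes hnm hqn hqqe
    exact hq.one_lt.ne' this
  -- |U| is prime to q^e
  have hUq : ¬ q ∣ Nat.card U := by
    intro hdvd
    have : Fact q.Prime := ⟨hq⟩
    obtain ⟨u, hu⟩ := exists_prime_orderOf_dvd_card' (G := U) q hdvd
    have hu' : orderOf (u : G) = q := by rw [Subgroup.orderOf_coe]; exact hu
    have := ((hA.U_iff (u : G)).1 u.2).2
    rw [hu'] at this
    exact hq.one_lt.ne' ((Nat.coprime_self q).1 this)
  have hUcop : (Nat.card U).Coprime (q ^ e) :=
    Nat.Coprime.pow_right e ((Nat.Prime.coprime_iff_not_dvd hq).2 hUq).symm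
  -- reduce to prime power order
  intro x hxq u hu
  suffices hmem : x ∈ Subgroup.centralizer (U : Set G) by
    exact (Subgroup.mem_centralizer_iff.1 hmem u hu).symm
  refine mem_of_primePow_mem (Subgroup.centralizer (U : Set G)) q hq ?_ x hxq
  clear hxq hu u x
  intro x t k ht htq hx
  rw [Subgroup.mem_centralizer_iff]
  intro u hu
  symm
  revert u
  have htq' : Nat.Coprime t q := (Nat.coprime_primes ht hq).2 htq
  have hxq : (orderOf x).Coprime q := by rw [hx]; exact Nat.Coprime.pow_left k htq'
  have hmemr : cidx x ∈ ({1, n, q ^ e, n * q ^ e} : Set ℕ) := by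
    rw [← hctx.2.2.2]; exact ⟨x, rfl⟩
  simp only [Set.mem_insert_iff, Set.mem_singleton_iff] at hmemr
  rcases hmemr with h1 | hn | hqe | hnqe
  · intro u hu
    exact hA.U_comm x ((hA.U_iff x).2 ⟨Or.inl h1, hxq⟩) u hu
  · exact absurd (hA.hTn x t k ht hx hn) htq
  · intro u hu
    exact hA.U_comm x ((hA.U_iff x).2 ⟨Or.inr hqe, hxq⟩) u hu
  · by_contra hcon
    -- a conjugate w' of w₀ in U commuting with x
    obtain ⟨w₀, hw₀U, hw₀⟩ := hA.w_ex
    have htw : ¬ t ∣ cidx w₀ := by
      rw [hw₀]
      intro hd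
      exact htq ((Nat.prime_dvd_prime_iff_eq ht hq).1 (ht.dvd_of_dvd_pow hd))
    obtain ⟨g₀, hg₀⟩ := hFix x w₀ t k ht hx htw
    set w' := g₀ * w₀ * g₀⁻¹ with hw'_def
    have hw'U : w' ∈ U := hA.U_normal.conj_mem w₀ hw₀U g₀
    have hw'c : cidx w' = q ^ e := by rw [hw'_def, cidx_conj, hw₀]
    have hw'nc : w' ∉ Subgroup.center G := by
      intro hc
      have := (cidx_eq_one_iff w').2 hc
      omega
    -- C(x) ≤ C(w')
    have hCle : Subgroup.centralizer ({x} : Set G) ≤ Subgroup.centralizer ({w'} : Set G) := by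
      intro g hg
      rw [Subgroup.mem_centralizer_iff] at hg ⊢
      intro y hy
      rw [Set.mem_singleton_iff] at hy
      subst hy
      have hgx : g * x = x * g := (hg x rfl).symm
      exact hE1 x t k ht htq hx hnqe w' g hg₀.symm hgx
    set K := Subgroup.centralizer ({w'} : Set G) with hK_def
    have hxK : x ∈ K := by
      rw [hK_def, Subgroup.mem_centralizer_iff]
      intro y hy
      rw [Set.mem_singleton_iff] at hy
      subst hy
      exact hg₀.symm
    have ha₀K : a₀ ∈ K := by
      rw [hK_def, Subgroup.mem_centralizer_iff]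
      intro y hy
      rw [Set.mem_singleton_iff] at hy
      subst hy
      exact (hA.a₀_cent w' hw'U).symm
    obtain ⟨k₀, hk₀⟩ := hA.a₀_order
    -- FIX inside K
    have hcK : Subgroup.centralizer ({(⟨x, hxK⟩ : K)} : Set K) =
        (Subgroup.centralizer ({x} : Set G)).subgroupOf K := by
      ext y
      simp only [Subgroup.mem_centralizer_iff, Set.mem_singleton_iff, forall_eq,
        Subgroup.mem_subgroupOf]
      constructor
      · intro h
        have := congrArg (Subtype.val) h
        simpa using this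
      · intro h
        apply Subtype.ext
        simpa using h
    have hidxK : cidx (⟨x, hxK⟩ : K) = n := by
      unfold cidx
      rw [hcK]
      have h1 := Subgroup.relIndex_mul_index hCle
      have h2 : (Subgroup.centralizer ({w'} : Set G)).index = q ^ e := hw'c
      have h3 : (Subgroup.centralizer ({x} : Set G)).index = n * q ^ e := hnqe
      rw [h2, h3] at h1
      exact Nat.eq_of_mul_eq_mul_right (by positivity) h1
    have hordK : orderOf (⟨a₀, ha₀K⟩ : K) = q ^ k₀ := by
      rw [← hk₀, ← Subgroup.orderOf_coe]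
    obtain ⟨g, hg⟩ := hFix (G := K) ⟨a₀, ha₀K⟩ ⟨x, hxK⟩ q k₀ hq hordK (by rw [hidxK]; exact hnq)
    have hg' : a₀ * ((g : G) * x * (g : G)⁻¹) = ((g : G) * x * (g : G)⁻¹) * a₀ := by
      have := congrArg (Subtype.val) hg
      simpa using this
    -- y' := g⁻¹ a₀ g
    set y' := (g : G)⁻¹ * a₀ * ((g : G)⁻¹)⁻¹ with hy'_def
    have hy'x : y' * x = x * y' := by
      have e1 : y' * x = (g : G)⁻¹ * (a₀ * ((g : G) * x * (g : G)⁻¹)) * (g : G) := by
        rw [hy'_def]; group
      have e2 : x * y' = (g : G)⁻¹ * (((g : G) * x * (g : G)⁻¹) * a₀) * (g : G) := by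
        rw [hy'_def]; group
      rw [e1, e2, hg']
    have hy'ord : orderOf y' = q ^ k₀ := by
      rw [← hk₀]
      exact orderOf_injective ((MulAut.conj (g : G)⁻¹ : G ≃* G) : G →* G)
        (MulAut.conj (g : G)⁻¹).injective a₀
    have hy'n : cidx y' = n := by rw [hy'_def, cidx_conj, hA.a₀_type]
    rcases hA.dich y' ⟨k₀, hy'ord⟩ hy'n with halt | halt
    · -- y' centralizes U: QC gives x centralizes U
      exact hcon (hQC n (q ^ e) hctx U hA.U_normal hUcop y' q k₀ hq hy'ord hy'n halt x
        hy'x.symm hxq)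
    · -- w' commutes with y' by E0, so w' is central
      have hcopy : (orderOf y').Coprime t := by
        rw [hy'ord]; exact Nat.Coprime.pow_left k₀ htq'.symm
      have hwy : w' * y' = y' * w' :=
        hE0 n (q ^ e) hctx x t k ht hx hnqe y' hy'x hcopy w' hg₀.symm
      exact hw'nc (halt w' hw'U hwy.symm)

end Cfsg.Agent.Lib.Helper55.CS4
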